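import Groth.Agent.RelResLib.Vanish
import Groth.Agent.FundLocIsoLib.LciDual
import Groth.Agent.ExtShLib.Local
import Groth.Agent.ProjSerreLib.HomContra
import Groth.Agent.VBLib.HomPair
import Groth.Agent.SuppLib.Basic
import Groth.Agent.PullbackMod.SuppClosed
import Groth.Agent.DCohMore.RelAmp
import Groth.Agent.DCohMore.DualFlf
import Groth.Agent.AmpleEmb.Generated

/-!
# Coresolutions by bundles with acyclic twists
-/

set_option autoImplicit false
set_option backward.isDefEq.respectTransparency false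
set_option linter.style.haveILetI false
set_option maxHeartbeats 1000000

universe u

open CategoryTheory CategoryTheory.Limits AlgebraicGeometry TopologicalSpace
open Groth.Agent.IntLib (mk mk_congr mk_tensor mk_structureModule mk_tensorPow mk_eq_mk)
open Groth.Agent.StalkHomLib (hF)
open Groth.Agent.ProjSerreLib (preMap preMap_id preMap_comp preMap_sum preMap_zero shortExact_homSeq)
open Groth.Agent.LocFreeHomLib (dualE)

noncomputable section

namespace Groth.Agent.RelResLib

variable {X : Scheme.{u}}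

local instance hasHFR {Y : Scheme.{u}} (M : Y.Modules) : ModSite.HasSheafHom (O := Y.sheaf) M :=
  ModTensor.hasSheafHom (O := Y.sheaf) M

/-- The bidual of a vector bundle. -/
theorem isIso_bidual_flf {E : X.Modules} (hE : FlatMod.IsFinLocFree E) : IsIso (VBLib.HomPair.bidual E) := by
  refine (PullbackMod.isIso_iff_stalk _).2 fun x => ?_
  let R := X.presheaf.stalk x
  obtain ⟨hfree, hfin⟩ := DCohLib.free_finite_stalk_of_flf hE x
  haveI := hfree
  haveI := hfin
  let O := Coh.structureModule X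
  let one : R ≃ₗ[R] O.presheaf.stalk x :=
    LinearEquiv.ofBijective (LinearMap.toSpanSingleton R _ (LocFreeHomLib.one' x)) (ParaFLib.bijective_oneG x)
  let e₁ : (dualE E).presheaf.stalk x ≃ₗ[R] Module.Dual R (E.presheaf.stalk x) :=
    (LinearEquiv.ofBijective _ (LocFreeHomLib.theta_bijective_flf E hE O x)).trans (LinearEquiv.congrRight one.symm)
  let e₂ : (dualE (dualE E)).presheaf.stalk x ≃ₗ[R] Module.Dual R ((dualE E).presheaf.stalk x) :=
    (LinearEquiv.ofBijective _ (LocFreeHomLib.theta_bijective_flf (dualE E) (DCohMore.isFinLocFree_dual E hE) O x)).trans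
      (LinearEquiv.congrRight one.symm)
  have key : ∀ (b : E.presheaf.stalk x) (d : (dualE E).presheaf.stalk x),
      e₂ (PullbackMod.stalkLin (VBLib.HomPair.bidual E) x b) d = e₁ d b := by
    intro b d
    show one.symm (StalkHomLib.theta (dualE E) O x (PullbackMod.stalkLin (VBLib.HomPair.bidual E) x b) d) =
      one.symm (StalkHomLib.theta E O x d b)
    refine congrArg _ ?_
    rw [StalkHomLib.theta_transpose]
    rw [show ((ModSite.sheafHomAdj (O := X.sheaf) (dualE E)).homEquiv E O).symm (VBLib.HomPair.bidual E) =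
      (CurveLib.tmodComm E (dualE E)).hom ≫ StalkHomLib.ev E O from Equiv.symm_apply_apply _ _]
    refine (LinearMap.congr_fun (PullbackMod.stalkLin_comp _ _ x) _).trans ?_
    exact congrArg (PullbackMod.stalkLin (StalkHomLib.ev E O) x) (VBLib.HomPair.tmodComm_stalk E (dualE E) x b d)
  let e : E.presheaf.stalk x ≃ₗ[R] (dualE (dualE E)).presheaf.stalk x :=
    (Module.evalEquiv R (E.presheaf.stalk x)).trans (e₁.dualMap.trans e₂.symm)
  have he : ∀ b, PullbackMod.stalkLin (VBLib.HomPair.bidual E) x b = e b := fun b => by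
    refine e₂.injective (LinearMap.ext fun d => ?_)
    rw [key]
    simp [e]
  rw [show ⇑(PullbackMod.stalkLin (VBLib.HomPair.bidual E) x) = ⇑e from funext he]
  exact e.bijective

/-- An epimorphism onto the dual gives a monomorphism from the module with locally free cokernel. -/
theorem exists_shortExact_of_epi_dual [IsLocallyNoetherian X] {Z P : X.Modules} (hZ : FlatMod.IsFinLocFree Z)
    (hP : FlatMod.IsFinLocFree P) (q : P ⟶ dualE Z) [Epi q] :
    ∃ (C : X.Modules) (i : Z ⟶ dualE P) (g : dualE P ⟶ C) (w : i ≫ g = 0),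
      FlatMod.IsFinLocFree C ∧ (ShortComplex.mk i g w).ShortExact := by
  let O := Coh.structureModule X
  have hD := DCohMore.isFinLocFree_dual Z hZ
  have hK : FlatMod.IsFinLocFree (kernel q) := FibVanLib.flf_kernel_of_epi hP hD q
  have hS := shortExact_homSeq O (S := ShortComplex.mk (kernel.ι q) q (kernel.condition q))
    (CMRegLib.shortExact_ker q) hK hP hD
  haveI := isIso_bidual_flf hZ
  refine ⟨dualE (kernel q), VBLib.HomPair.bidual Z ≫ preMap q O, preMap (kernel.ι q) O, ?_,
    DCohMore.isFinLocFree_dual _ hK, ?_⟩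
  · rw [Category.assoc, ← preMap_comp O _ _ hK, kernel.condition, preMap_zero O hK, comp_zero]
  · exact ShortComplex.shortExact_of_iso
      (S₁ := ProjSerreLib.homSeq O (ShortComplex.mk (kernel.ι q) q (kernel.condition q)) hK)
      (ShortComplex.isoMk (asIso (VBLib.HomPair.bidual Z)).symm (Iso.refl _) (Iso.refl _)
        ((IsIso.inv_hom_id_assoc (VBLib.HomPair.bidual Z) (preMap q O)).trans (Category.comp_id _).symm)
        ((Category.id_comp _).trans (Category.comp_id _).symm)) hS

/-- Homs out of a finite sum. -/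
theorem nonempty_hF_sigma {r : ℕ} {M : X.Modules} (hM : FlatMod.IsFinLocFree M) (N : X.Modules) :
    Nonempty ((hF (∐ fun _ : Fin r => M)).obj N ≅ ∐ fun _ : Fin r => (hF M).obj N) := by
  classical
  let P := ∐ fun _ : Fin r => M
  have hP : FlatMod.IsFinLocFree P := DCohLib.isFinLocFree_sigma r _ fun _ => hM
  let p : Fin r → (P ⟶ M) := fun j => Sigma.desc fun i => if i = j then 𝟙 _ else 0
  have htot : ∑ j, p j ≫ Sigma.ι (fun _ : Fin r => M) j = 𝟙 P := by
    refine Sigma.hom_ext _ _ fun i => ?_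
    simp [p, P, Preadditive.comp_sum, ite_comp, Finset.sum_ite_eq]
  refine ⟨⟨∑ j, preMap (Sigma.ι (fun _ : Fin r => M) j) N ≫ Sigma.ι (fun _ : Fin r => (hF M).obj N) j,
    Sigma.desc fun j => preMap (p j) N, ?_, ?_⟩⟩
  · rw [Preadditive.sum_comp]
    simp only [Category.assoc, Sigma.ι_desc, ← preMap_comp N _ _ hP]
    rw [← preMap_sum N _ _ hP, htot, preMap_id N hP]
  · refine Sigma.hom_ext _ _ fun i => ?_
    rw [Sigma.ι_desc_assoc, Preadditive.comp_sum, Category.comp_id]
    rw [Finset.sum_eq_single i]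
    · rw [← Category.assoc, ← preMap_comp N _ _ hM]
      simp [p, preMap_id N hM]
    · intro b _ hb
      rw [← Category.assoc, ← preMap_comp N _ _ hM]
      simp [p, hb, preMap_zero N hM]
    · exact fun h => absurd (Finset.mem_univ i) h

variable {S : Scheme.{u}} (f : X ⟶ S) [IsProper f] [IsNoetherian X]

/-- Homs out of a twist of a bundle from the base have no more fibre cohomology than the twist. -/
theorem subsingleton_fiberH_hom_twist {E : S.Modules} (hE : FlatMod.IsFinLocFree E) {A B : X.Modules}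
    (hA : PicF.IsInvertible A) (η : Nonempty (CohB1.tensorMod A B ≅ Coh.structureModule X)) {F : X.Modules}
    (hF' : Coh.IsCoh F) (s : S) (i : ℕ) (h : Subsingleton (CohIII.fiberH f (CohB1.tensorMod F B) s i)) :
    Subsingleton (CohIII.fiberH f ((hF (CohB1.tensorMod ((Scheme.Modules.pullback f).obj E) A)).obj F) s i) := by
  obtain ⟨η⟩ := η
  obtain ⟨W, r, hs, ⟨e⟩⟩ := hE s
  let V : X.Opens := f ⁻¹ᵁ W
  let Y : Scheme.{u} := V.toScheme
  let j : Y ⟶ X := V.ι
  let fW : Y ⟶ W.toScheme := f ∣_ W
  have hpb : IsPullback j fW f W.ι := (isPullback_morphismRestrict f W).flip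
  haveI : IsProper fW := inferInstanceAs (IsProper (f ∣_ W))
  haveI : IsLocallyNoetherian Y := inferInstanceAs (IsLocallyNoetherian V.toScheme)
  let P := CohB1.tensorMod ((Scheme.Modules.pullback f).obj E) A
  let R := Scheme.Modules.restrictFunctor V.ι
  let A' := (Scheme.Modules.pullback j).obj A
  let B' := (Scheme.Modules.pullback j).obj B
  let F' := (Scheme.Modules.pullback j).obj F
  have hA' : PicF.IsInvertible A' := AmpleLib.isInvertible_pullback _ hA
  let η' : CohB1.tensorMod A' B' ≅ Coh.structureModule Y :=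
    (AmpleLib.pullTensor j A B).symm ≪≫ (Scheme.Modules.pullback j).mapIso η ≪≫ AmpleLib.pullO j
  let e₁ : (Scheme.Modules.pullback j).obj ((Scheme.Modules.pullback f).obj E) ≅ FlatMod.freeMod Y r :=
    (Scheme.Modules.pullbackComp j f).app E ≪≫ (Scheme.Modules.pullbackCongr hpb.w).app E ≪≫
      ((Scheme.Modules.pullbackComp fW W.ι).app E).symm ≪≫
      (Scheme.Modules.pullback fW).mapIso ((AmpleLib.restrictIso W.ι E).symm ≪≫ e) ≪≫ DCohLib.pullFreeIso fW r
  haveI : PreservesColimitsOfSize.{u, u} ((ModSite.tensorBi Y.sheaf).flip.obj A') :=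
    ModTensor.preservesColimitsOfSize_tensorBi Y.sheaf A'
  let T : Y.Modules ⥤ Y.Modules := (DCoh.tensorBi (X := Y)).flip.obj A'
  haveI : PreservesColimitsOfSize.{u, u} T := ‹_›
  haveI : PreservesColimitsOfSize.{0, 0} T := preservesColimitsOfSize_shrink.{0, u, 0, u} _
  let u₁ : T.obj (Coh.structureModule Y) ≅ A' :=
    ((ModTensor.tensorSymm Y.sheaf (Coh.structureModule Y)).app A').symm ≪≫
      (ModTensor.tensorUnitRight Y.sheaf).app A'
  let eP : R.obj P ≅ ∐ fun _ : Fin r => A' :=
    AmpleLib.restrictIso j P ≪≫ AmpleLib.pullTensor j _ A ≪≫ AmpleLib.tIso e₁ (Iso.refl A') ≪≫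
      PreservesCoproduct.iso T (fun _ : Fin r => Coh.structureModule Y) ≪≫ Limits.Sigma.mapIso fun _ => u₁
  have hA'f := CurveLib.isFinLocFree_of_isInvertible hA'
  have hSf : FlatMod.IsFinLocFree (∐ fun _ : Fin r => A') := DCohLib.isFinLocFree_sigma r _ fun _ => hA'f
  have hRf : FlatMod.IsFinLocFree (R.obj P) := DCohLib.isFinLocFree_iso eP.symm hSf
  let e₂ : (hF (R.obj P)).obj F' ≅ (hF (∐ fun _ : Fin r => A')).obj F' :=
    { hom := preMap eP.inv F'
      inv := preMap eP.hom F'
      hom_inv_id := by rw [← preMap_comp F' _ _ hRf, Iso.hom_inv_id, preMap_id F' hRf]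
      inv_hom_id := by rw [← preMap_comp F' _ _ hSf, Iso.inv_hom_id, preMap_id F' hSf] }
  obtain ⟨e₃⟩ := nonempty_hF_sigma (r := r) hA'f F'
  obtain ⟨e₄⟩ := FundLocIsoLib.nonempty_hF_invertible hA' η' F'
  let θ : (Scheme.Modules.pullback j).obj ((hF P).obj F) ≅ ∐ fun _ : Fin r => CohB1.tensorMod F' B' :=
    (AmpleLib.restrictIso j _).symm ≪≫ (ExtShLib.restrictHFIso V P).app F ≪≫
      (hF (R.obj P)).mapIso (AmpleLib.restrictIso j F) ≪≫ e₂ ≪≫ e₃ ≪≫ Limits.Sigma.mapIso fun _ => e₄
  let t : W.toScheme := ⟨s, hs⟩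
  have hP : FlatMod.IsFinLocFree P := DCohLib.isFinLocFree_tensor (PullbackMod.isFinLocFree_pullback f E hE)
    (CurveLib.isFinLocFree_of_isInvertible hA)
  haveI := LocFreeHomLib.isIso_alpha P hP F
  have hG : CohB1.IsFP ((hF P).obj F) :=
    DCohLib.isFP_iso (asIso (LocFreeHomLib.alpha P F))
      (UnifFibLib.isFP_tensor_flf ((QCohLib.isCoh_iff_isFP F).1 hF') (DCohMore.isFinLocFree_dual P hP))
  haveI := FibreDepth.isQCoh_of_isFP _ hG
  refine UnifFibLib.subsingleton_fiberH_of_rank f hG ?_
  refine (BCLib.fiberRank_baseChange hpb ((hF P).obj F) i t).symm.trans ?_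
  rw [BCLib.fiberRank_congr fW θ i]
  refine FlatStrat.fiberRank_eq_zero_of_subsingleton ?_
  have h₀ : Subsingleton (CohIII.fiberH fW (CohB1.tensorMod F' B') t i) := by
    have hFB : CohB1.IsFP (CohB1.tensorMod F B) := GenBCLib.isFP_tensor_invertible
      ((QCohLib.isCoh_iff_isFP F).1 hF') (AmpleLib.isInvertible_of_tensor_iso (AmpleLib.comm B A ≪≫ η))
    haveI := FibreDepth.isQCoh_of_isFP _ hFB
    refine UnifFibLib.subsingleton_fiberH_of_rank fW
      (DCohLib.isFP_iso (AmpleLib.pullTensor j F B) (PullbackMod.isFP_pullback j _ hFB)) ?_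
    rw [← BCLib.fiberRank_congr fW (AmpleLib.pullTensor j F B) i, BCLib.fiberRank_baseChange hpb _ i t]
    exact FlatStrat.fiberRank_eq_zero_of_subsingleton h
  let G : Fin r → Y.Modules := fun _ => CohB1.tensorMod F' B'
  haveI : PreservesColimitsOfSize.{u, u} (Scheme.Modules.pullback (fW.fiberι t)) :=
    (Scheme.Modules.pullbackPushforwardAdjunction _).leftAdjoint_preservesColimits
  haveI : PreservesColimitsOfSize.{0, 0} (Scheme.Modules.pullback (fW.fiberι t)) := preservesColimitsOfSize_shrink _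
  letI : (fW.fiber t).Over (Spec (CommRingCat.of (W.toScheme.residueField t))) := ⟨fW.fiberToSpecResidueField t⟩
  haveI : Subsingleton (Coh.HH (fW.fiber t) (∐ fun b => (Scheme.Modules.pullback (fW.fiberι t)).obj (G b)) i) :=
    ProjSerreLib.subsingleton_HH_sigma (W.toScheme.residueField t) _ fun _ => h₀
  exact ProjCoh.subsingleton_of_iso (PreservesCoproduct.iso (Scheme.Modules.pullback (fW.fiberι t)) G).symm i

end Groth.Agent.RelResLib
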