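import Groth.Agent.RelResLib.Cores
import Groth.Agent.AmpleFamLib.TopVan

/-!
# Coresolutions with acyclic twists
-/

set_option autoImplicit false
set_option backward.isDefEq.respectTransparency false
set_option linter.style.haveILetI false
set_option maxHeartbeats 1000000

universe u

open CategoryTheory CategoryTheory.Limits AlgebraicGeometry TopologicalSpace
open Groth.Agent.IntLib (mk mk_congr mk_tensor mk_structureModule mk_tensorPow mk_eq_mk)
open Groth.Agent.StalkHomLib (hF)
open Groth.Agent.LocFreeHomLib (dualE)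

noncomputable section

namespace Groth.Agent.RelResLib

variable {X S : Scheme.{u}} (f : X ⟶ S) [IsProper f] [IsNoetherian X]

local instance hasHFC {Y : Scheme.{u}} (M : Y.Modules) : ModSite.HasSheafHom (O := Y.sheaf) M :=
  ModTensor.hasSheafHom (O := Y.sheaf) M

/-- No fibre cohomology of `Z ⊗ F` above `ν`. -/
def Van (F : X.Modules) (ν : ℕ) (Z : X.Modules) : Prop :=
  ∀ (s : S) (p : ℕ), ν < p → Subsingleton (CohIII.fiberH f (CohB1.tensorMod Z F) s p)

/-- Vanishing above the dimension of the support on the fibres. -/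
theorem van_of_support {F : X.Modules} (hFc : Coh.IsCoh F) (d : ℕ)
    (hd : ∀ y : S, topologicalKrullDim ↥{x : X | x ∈ CohB1.support F ∧ f.base x = y} ≤ d)
    {Z : X.Modules} (hZ : FlatMod.IsFinLocFree Z) : Van f F d Z := by
  intro s p hp
  haveI := hFc.1
  haveI : IsProper (f.fiberToSpecResidueField s) :=
    inferInstanceAs (IsProper (pullback.snd f (S.fromSpecResidueField s)))
  haveI : IsLocallyNoetherian (f.fiber s) := LocallyOfFiniteType.isLocallyNoetherian (f.fiberToSpecResidueField s)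
  haveI : CompactSpace (f.fiber s) := QuasiCompact.compactSpace_of_compactSpace (f.fiberToSpecResidueField s)
  haveI : IsNoetherian (f.fiber s) := { }
  let C : Set (f.fiber s) := f.fiberι s ⁻¹' CohB1.support F
  have hC : IsClosed C := (PullbackMod.isClosed_support_of_isFT hFc.2).preimage (f.fiberι s).continuous
  have hM : CohB1.support ((Scheme.Modules.pullback (f.fiberι s)).obj (CohB1.tensorMod Z F)) ⊆ C := by
    have hfp : CohB1.IsFP (CohB1.tensorMod Z F) :=
      DCohLib.isFP_iso (AmpleLib.comm F Z) (UnifFibLib.isFP_tensor_flf ((QCohLib.isCoh_iff_isFP F).1 hFc) hZ)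
    haveI := FibreDepth.isQCoh_of_isFP _ hfp
    refine (ClSubLib.support_pullback_subset _ _).trans (Set.preimage_mono fun x hx => ?_)
    intro hsub
    haveI : Subsingleton (F.presheaf.stalk x) := hsub
    exact hx (DCohLib.stalkTensor x Z F).symm.toEquiv.subsingleton
  have hdim : topologicalKrullDim C ≤ (d : WithBot ℕ∞) := by
    let g : C → ↥{x : X | x ∈ CohB1.support F ∧ f.base x = s} := fun z =>
      ⟨f.fiberι s z.1, z.2, (Set.ext_iff.1 (f.range_fiberι s) _).1 ⟨z.1, rfl⟩⟩
    have hg : Topology.IsClosedEmbedding g := by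
      have hemb : Topology.IsEmbedding g :=
        (((f.fiberι s).isEmbedding.comp Topology.IsEmbedding.subtypeVal).codRestrict
          {x : X | x ∈ CohB1.support F ∧ f.base x = s} (fun z => (g z).2) :)
      refine ⟨hemb, ?_⟩
      have hsurj : Function.Surjective g := fun w => by
        obtain ⟨z, hz⟩ := (Set.ext_iff.1 (f.range_fiberι s) w.1).2 w.2.2
        exact ⟨⟨z, show f.fiberι s z ∈ CohB1.support F from hz.symm ▸ w.2.1⟩, Subtype.ext hz⟩
      rw [hsurj.range_eq]
      exact isClosed_univ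
    exact hg.isInducing.topologicalKrullDim_le.trans (hd s)
  exact CurveLib.subsingleton_HH_of_support _ hC hM hdim hp

variable {F : X.Modules}

theorem van_step (hFc : Coh.IsCoh F) (hfl : FlatMod.IsFlatOver f F) {ν : ℕ} {T : ShortComplex X.Modules}
    (hT : T.ShortExact) (h₁ : FlatMod.IsFinLocFree T.X₁) (h₂ : FlatMod.IsFinLocFree T.X₂)
    (h₃ : FlatMod.IsFinLocFree T.X₃) (hV : Van f F (ν + 1) T.X₁) (hV₂ : Van f F 0 T.X₂) : Van f F ν T.X₃ := by
  intro s p hp
  have hfp : ∀ {Z : X.Modules}, FlatMod.IsFinLocFree Z → Coh.IsQCoh (CohB1.tensorMod Z F) := fun {Z} hZ =>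
    FibreDepth.isQCoh_of_isFP _
      (DCohLib.isFP_iso (AmpleLib.comm F Z) (UnifFibLib.isFP_tensor_flf ((QCohLib.isCoh_iff_isFP F).1 hFc) hZ))
  haveI : Coh.IsQCoh (T.map (CurveLib.tensR F)).X₁ := hfp h₁
  haveI : Coh.IsQCoh (T.map (CurveLib.tensR F)).X₂ := hfp h₂
  haveI : Coh.IsQCoh (T.map (CurveLib.tensR F)).X₃ := hfp h₃
  have hS := QuotRep.shortExact_pullback_of_flat (IsPullback.of_hasPullback f (S.fromSpecResidueField s))
    (UnifFibLib.shortExact_tensR hT h₃ F)
    (DCohMore.isFlatOver_of_iso f (AmpleLib.comm F T.X₃) (FibVanLib.isFlatOver_tensor_flf f h₃ hfl))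
  exact UnifFibLib.subsingleton_HH_X₃ hS p (hV₂ s p (by omega)) (hV s (p + 1) (by omega))

theorem subsingleton_fiberH_of_isZero {M : X.Modules} (h : IsZero M) (s : S) (p : ℕ) :
    Subsingleton (CohIII.fiberH f M s p) :=
  AmpleFamLib.subsingleton_HH_of_isZero ((Scheme.Modules.pullback (f.fiberι s)).map_isZero h) p

/-- Coresolutions, by descending induction on the vanishing degree. -/
theorem exists_cores (hFc : Coh.IsCoh F) (hfl : FlatMod.IsFlatOver f F)
    (step : ∀ Z : X.Modules, FlatMod.IsFinLocFree Z →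
      ∃ (A C : X.Modules) (i : Z ⟶ A) (g : A ⟶ C) (w : i ≫ g = 0),
        FlatMod.IsFinLocFree A ∧ FlatMod.IsFinLocFree C ∧ Van f F 0 A ∧ (ShortComplex.mk i g w).ShortExact) :
    ∀ (ν : ℕ) (Z : X.Modules), FlatMod.IsFinLocFree Z → Van f F ν Z →
      ∃ (K : CochainComplex X.Modules ℕ) (i : Z ⟶ K.X 0) (w : i ≫ K.d 0 1 = 0),
        Mono i ∧ (ShortComplex.mk i (K.d 0 1) w).Exact ∧ (∀ n, K.ExactAt (n + 1)) ∧
        (∀ n, ν < n → IsZero (K.X n)) ∧ (∀ n, FlatMod.IsFinLocFree (K.X n)) ∧ ∀ n, Van f F 0 (K.X n) := by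
  intro ν
  induction ν with
  | zero =>
    intro Z hZ hV
    let K := (CochainComplex.single₀ X.Modules).obj Z
    have hz : ∀ n, 0 < n → IsZero (K.X n) := fun n hn =>
      HomologicalComplex.isZero_single_obj_X _ 0 Z n (Nat.ne_of_gt hn)
    refine ⟨K, 𝟙 Z, (hz 1 one_pos).eq_of_tgt _ _, inferInstanceAs (Mono (𝟙 Z)), ?_, fun n => ?_, hz, fun n => ?_,
      fun n => ?_⟩
    · haveI : Epi (𝟙 Z) := inferInstance
      exact (ShortComplex.exact_iff_epi _ ((hz 1 one_pos).eq_of_tgt _ _)).2 inferInstance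
    · exact (HomologicalComplex.exactAt_iff _ _).2 (ShortComplex.exact_of_isZero_X₂ _ (hz (n + 1) n.succ_pos))
    · rcases n with _ | n
      · exact hZ
      · exact DCohLib.isFinLocFree_of_isZero (hz (n + 1) n.succ_pos)
    · rcases n with _ | n
      · exact hV
      · intro s p hp
        have hz' : IsZero (CohB1.tensorMod (K.X (n + 1)) F) := (CurveLib.tensR F).map_isZero (hz (n + 1) n.succ_pos)
        exact subsingleton_fiberH_of_isZero f hz' s p
  | succ ν ih =>
    intro Z hZ hV
    obtain ⟨A, C, i, g, w, hA, hC, hVA, hS⟩ := step Z hZ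
    obtain ⟨K', i', w', hi', hex', hK', hzero', hflf', hgood'⟩ :=
      ih C hC (van_step f hFc hfl (ν := ν) (T := ShortComplex.mk i g w) hS hZ hA hC hV hVA)
    haveI := hi'
    haveI := hS.mono_f
    haveI := hS.epi_g
    let K := CochainComplex.augment K' (g ≫ i') (by rw [Category.assoc, w', comp_zero])
    have w₀ : i ≫ (g ≫ i') = 0 := by rw [← Category.assoc, w, zero_comp]
    refine ⟨K, i, w₀, hS.mono_f, ?_, fun n => ?_, fun n hn => ?_, fun n => ?_, fun n => ?_⟩
    · let φ : ShortComplex.mk i g w ⟶ ShortComplex.mk i (g ≫ i') w₀ := { τ₁ := 𝟙 _, τ₂ := 𝟙 _, τ₃ := i' }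
      haveI : Epi φ.τ₁ := inferInstanceAs (Epi (𝟙 _))
      haveI : IsIso φ.τ₂ := inferInstanceAs (IsIso (𝟙 _))
      haveI : Mono φ.τ₃ := hi'
      exact (ShortComplex.exact_iff_of_epi_of_isIso_of_mono φ).1 hS.exact
    · rcases n with _ | n
      · rw [HomologicalComplex.exactAt_iff' _ 0 1 2 (by simp) (by simp)]
        let φ : K.sc' 0 1 2 ⟶ ShortComplex.mk i' (K'.d 0 1) w' :=
          { τ₁ := g, τ₂ := 𝟙 _, τ₃ := 𝟙 _
            comm₁₂ := by simp [K]
            comm₂₃ := by simp [K] }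
        haveI : Epi φ.τ₁ := hS.epi_g
        haveI : IsIso φ.τ₂ := inferInstanceAs (IsIso (𝟙 _))
        haveI : Mono φ.τ₃ := inferInstanceAs (Mono (𝟙 _))
        exact (ShortComplex.exact_iff_of_epi_of_isIso_of_mono φ).2 hex'
      · rw [HomologicalComplex.exactAt_iff' _ (n + 1) (n + 2) (n + 3) (by simp) (by simp)]
        have hq := hK' n
        rw [HomologicalComplex.exactAt_iff' _ n (n + 1) (n + 2) (by simp) (by simp)] at hq
        exact ShortComplex.exact_of_iso (ShortComplex.isoMk (Iso.refl _) (Iso.refl _) (Iso.refl _)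
          (by simp [K]) (by simp [K])) hq
    · obtain ⟨j, rfl⟩ : ∃ j, n = j + 1 := ⟨n - 1, by omega⟩
      exact hzero' j (by omega)
    · rcases n with _ | n
      · exact hA
      · exact hflf' n
    · rcases n with _ | n
      · exact hVA
      · exact hgood' n

/-- The step: epimorphisms onto duals from twists of bundles of the base. -/
theorem exists_step [IsNoetherian S] {L : X.Modules} (hL : RelAmple.IsRelAmple f L) (hFc : Coh.IsCoh F)
    (hfl : FlatMod.IsFlatOver f F) (hAB : Flat f ∨ ∃ H : S.Modules, CohB1.IsAmple H) (Z : X.Modules)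
    (hZ : FlatMod.IsFinLocFree Z) :
    ∃ (A C : X.Modules) (i : Z ⟶ A) (g : A ⟶ C) (w : i ≫ g = 0),
      FlatMod.IsFinLocFree A ∧ FlatMod.IsFinLocFree C ∧ Van f F 0 A ∧ (ShortComplex.mk i g w).ShortExact := by
  haveI : LocallyOfFinitePresentation f := inferInstance
  have hLi := AmpleLib.isInvertible_of_isRelAmple hL
  obtain ⟨L', hL', η₀⟩ := AmpleEmb.exists_isInverseOf hLi
  obtain ⟨η⟩ := id η₀
  have hfp : CohB1.IsFP F := (QCohLib.isCoh_iff_isFP F).1 hFc
  have hD := DCohMore.isFinLocFree_dual Z hZ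
  have hDc := DCohLib.isCoh_of_isFinLocFree hD
  obtain ⟨N₁, h₁⟩ := UnifFibLib.exists_uniform_of_relAmple f hL hfp hfl
  obtain ⟨N₂, h₂⟩ : ∃ N : ℕ, ∀ m, N ≤ m → ∃ (E : S.Modules)
      (p : CohB1.tensorMod ((Scheme.Modules.pullback f).obj E) (CohB1.tensorPow L' m) ⟶ dualE Z),
      FlatMod.IsFinLocFree E ∧ Epi p := by
    rcases hAB with hfl' | ⟨H, hH⟩
    · haveI := hfl'
      exact exists_epi_twist f hL η₀ hDc (TildePerf.isFlatOver_of_isFinLocFree f hD)
    · obtain ⟨N, hN⟩ := S4474.result f L hLi hL (dualE Z) hDc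
      refine ⟨N, fun m hm => ?_⟩
      let G := CohB1.tensorMod (dualE Z) (CohB1.tensorPow L m)
      haveI : Epi ((Scheme.Modules.pullbackPushforwardAdjunction f).counit.app G) := hN m hm
      have hG : Coh.IsCoh G := DCohLib.isCoh_of_isFinLocFree
        (DCohLib.isFinLocFree_tensor hD (CurveLib.isFinLocFree_of_isInvertible (AmpleLib.isInvertible_tensorPow hLi m)))
      haveI : Coh.IsQCoh G := hG.1
      have hpc : Coh.IsCoh ((Scheme.Modules.pushforward f).obj G) := RpushLib.isCoh_push f hG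
      haveI := hH.2.1
      haveI : QuasiSeparatedSpace S := inferInstance
      haveI := hpc.1
      obtain ⟨b, P, π, hπ, hP⟩ := AmpleEmb.exists_epi_sigma_negPow (fun n : ℕ => CohB1.tensorPow H (n + 1))
        (fun n => AmpleLib.isInvertible_tensorPow hH.1 _) (fun x => hH.2.2 x)
        ((Scheme.Modules.pushforward f).obj G) hpc.2
      choose hPi n k hk hPk using hP
      haveI := hπ
      haveI : (Scheme.Modules.pullback f).IsLeftAdjoint :=
        (Scheme.Modules.pullbackPushforwardAdjunction f).isLeftAdjoint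
      haveI : Epi ((Scheme.Modules.pullback f).map π) := inferInstance
      obtain ⟨e⟩ : Nonempty (CohB1.tensorMod G (CohB1.tensorPow L' m) ≅ dualE Z) := by
        rw [← mk_eq_mk]
        show mk (dualE Z) * mk (CohB1.tensorPow L m) * mk (CohB1.tensorPow L' m) = mk (dualE Z)
        rw [mul_assoc, mk_tensorPow, mk_tensorPow, ← mul_pow,
          show mk L * mk L' = 1 from mk_congr η, one_pow, mul_one]
      let c := (Scheme.Modules.pullback f).map π ≫ (Scheme.Modules.pullbackPushforwardAdjunction f).counit.app G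
      haveI : Epi c := epi_comp _ _
      haveI := ProjBundleLib.epi_tensor_right c (CohB1.tensorPow L' m)
      exact ⟨∐ P, ((DCoh.tensorBi (X := X)).map c).app (CohB1.tensorPow L' m) ≫ e.hom,
        DCohLib.isFinLocFree_sigma b _ fun j => CurveLib.isFinLocFree_of_isInvertible (hPi j), epi_comp _ _⟩
  obtain ⟨E, q, hE, hq⟩ := h₂ (max N₁ N₂) (le_max_right _ _)
  haveI := hq
  let m := max N₁ N₂
  let P := CohB1.tensorMod ((Scheme.Modules.pullback f).obj E) (CohB1.tensorPow L' m)
  have hP : FlatMod.IsFinLocFree P := isFinLocFree_twist f hL' hE m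
  obtain ⟨C, i, g, w, hC, hS⟩ := exists_shortExact_of_epi_dual hZ hP q
  refine ⟨dualE P, C, i, g, w, DCohMore.isFinLocFree_dual P hP, hC, fun s p hp => ?_, hS⟩
  have η' : Nonempty (CohB1.tensorMod (CohB1.tensorPow L' m) (CohB1.tensorPow L m) ≅ Coh.structureModule X) := by
    rw [← mk_eq_mk]
    show mk (CohB1.tensorPow L' m) * mk (CohB1.tensorPow L m) = 1
    rw [mk_tensorPow, mk_tensorPow, ← mul_pow, mul_comm, show mk L * mk L' = 1 from mk_congr η, one_pow]
  have h := subsingleton_fiberH_hom_twist f hE (AmpleLib.isInvertible_tensorPow hL' m) η' hFc s p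
    (h₁ m (le_max_left _ _) p hp s)
  haveI := LocFreeHomLib.isIso_alpha P hP F
  haveI : Subsingleton (Coh.HH (f.fiber s) ((Scheme.Modules.pullback (f.fiberι s)).obj ((hF P).obj F)) p) := h
  exact ProjCoh.subsingleton_of_iso
    ((Scheme.Modules.pullback (f.fiberι s)).mapIso (AmpleLib.comm (dualE P) F ≪≫ asIso (LocFreeHomLib.alpha P F))).symm p

end Groth.Agent.RelResLib
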